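import Groth.Agent.Lib.FlatH4.FlatAt
import Groth.Agent.Lib.FlatDvr5.Complete

/-!
# Descent of flatness at a prime over a complete local ring by a separating family
-/

set_option autoImplicit false
set_option backward.isDefEq.respectTransparency false
set_option linter.style.haveILetI false
set_option maxHeartbeats 1600000

universe u

open TensorProduct IsLocalRing

namespace Groth.Agent.FlatFam5

/-- Base change of flatness at a prime to a pushout over an intermediate ring. -/
theorem flat_pushout_bc (C A A' A'' T T'' M : Type u) [CommRing C] [CommRing A] [CommRing A'] [CommRing A'']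
    [CommRing T] [CommRing T''] [Algebra C A] [Algebra C A'] [Algebra C A''] [Algebra A A''] [Algebra A' A'']
    [IsScalarTower C A A''] [IsScalarTower C A' A''] [Algebra C T]
    [Algebra A T''] [Algebra A'' T''] [Algebra (A ⊗[C] T) T''] [IsScalarTower A A'' T'']
    [IsScalarTower A (A ⊗[C] T) T''] [Algebra.IsPushout A A'' (A ⊗[C] T) T'']
    [AddCommGroup M] [Module C M] [Module T M] [IsScalarTower C T M]
    (Q : Ideal T'') [Q.IsPrime]
    (h : ∀ (Q₀ : Ideal (A' ⊗[C] T)) [Q₀.IsPrime],
      Q₀.comap (Algebra.TensorProduct.includeRight : T →ₐ[C] A' ⊗[C] T).toRingHom =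
        (Q.comap (algebraMap (A ⊗[C] T) T'')).comap (Algebra.TensorProduct.includeRight : T →ₐ[C] A ⊗[C] T).toRingHom →
      Q₀.comap (algebraMap A' (A' ⊗[C] T)) = (Q.comap (algebraMap A'' T'')).comap (algebraMap A' A'') →
      letI := FlatH4.tensorModule C A' T M
      haveI := FlatH4.tensorModule_isScalarTower C A' T M
      Module.Flat A' (LocalizedModule Q₀.primeCompl (A' ⊗[C] M))) :
    letI := FlatH4.tensorModule C A T M
    haveI := FlatH4.tensorModule_isScalarTower C A T M
    Module.Flat A'' (LocalizedModule Q.primeCompl (T'' ⊗[A ⊗[C] T] (A ⊗[C] M))) := by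
  letI : Module (A ⊗[C] T) (A ⊗[C] M) := FlatH4.tensorModule C A T M
  haveI : IsScalarTower A (A ⊗[C] T) (A ⊗[C] M) := FlatH4.tensorModule_isScalarTower C A T M
  letI : Module (A' ⊗[C] T) (A' ⊗[C] M) := FlatH4.tensorModule C A' T M
  haveI : IsScalarTower A' (A' ⊗[C] T) (A' ⊗[C] M) := FlatH4.tensorModule_isScalarTower C A' T M
  letI : Algebra C T'' := ((algebraMap A T'').comp (algebraMap C A)).toAlgebra
  haveI : IsScalarTower C A T'' := IsScalarTower.of_algebraMap_eq fun _ => rfl
  haveI : IsScalarTower C A'' T'' := IsScalarTower.of_algebraMap_eq fun c => by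
    show algebraMap A T'' (algebraMap C A c) = _
    rw [IsScalarTower.algebraMap_apply A A'' T'', ← IsScalarTower.algebraMap_apply C A A'']
  let iA : A' →ₐ[C] T'' := (IsScalarTower.toAlgHom C A'' T'').comp (IsScalarTower.toAlgHom C A' A'')
  let iT : T →ₐ[C] T'' := ((IsScalarTower.toAlgHom A (A ⊗[C] T) T'').restrictScalars C).comp
    Algebra.TensorProduct.includeRight
  let ψ' : A' ⊗[C] T →+* T'' := (Algebra.TensorProduct.lift iA iT fun _ _ => Commute.all _ _).toRingHom
  haveI h1 : Module.Flat A' (LocalizedModule (Q.comap ψ').primeCompl (A' ⊗[C] M)) := by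
    refine h (Q.comap ψ') ?_ ?_
    · rw [Ideal.comap_comap, Ideal.comap_comap]
      congr 1
      refine RingHom.ext fun t => ?_
      simp [ψ', iA, iT]
    · rw [Ideal.comap_comap, Ideal.comap_comap]
      congr 1
      refine RingHom.ext fun a => ?_
      simp [ψ', iA, iT, ← Algebra.TensorProduct.one_def]
  let e : A'' ⊗[A'] (A' ⊗[C] M) ≃ₗ[A''] T'' ⊗[A ⊗[C] T] (A ⊗[C] M) :=
    AlgebraTensorModule.cancelBaseChange C A' A'' A'' M ≪≫ₗ
      (AlgebraTensorModule.cancelBaseChange C A A'' A'' M).symm ≪≫ₗ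
      (Algebra.IsPushout.cancelBaseChange A A'' (A ⊗[C] T) T'' (A ⊗[C] M)).symm
  have hgen : ∀ (a : A') (m : M), e ((1 : A'') ⊗ₜ (a ⊗ₜ m)) =
      algebraMap A'' T'' (algebraMap A' A'' a) ⊗ₜ[A ⊗[C] T] ((1 : A) ⊗ₜ[C] m) := by
    intro a m
    simp [e, Algebra.smul_def]
  refine FlatH4.flat_localized_baseChange (R := A') (S := A' ⊗[C] T) (M := A' ⊗[C] M) A'' ψ' Q e ?_
  intro s m
  induction s using TensorProduct.induction_on with
  | zero => simp
  | add a b ha hb => simp only [add_smul, tmul_add, map_add, ha, hb]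
  | tmul a t =>
    induction m using TensorProduct.induction_on with
    | zero => simp
    | add a b ha hb => simp only [smul_add, tmul_add, map_add, ha, hb]
    | tmul b m =>
      rw [show (a ⊗ₜ[C] t) • (b ⊗ₜ[C] m) = (a * b) ⊗ₜ[C] (t • m) from
        FlatH4.tensorAct_tmul C A' T M a b t m, hgen, hgen, TensorProduct.smul_tmul', smul_eq_mul]
      have hψ' : ψ' (a ⊗ₜ[C] t) =
          algebraMap A'' T'' (algebraMap A' A'' a) * algebraMap (A ⊗[C] T) T'' ((1 : A) ⊗ₜ[C] t) := by
        simp [ψ', iA, iT]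
      have h2 : (1 : A) ⊗ₜ[C] (t • m) = ((1 : A) ⊗ₜ[C] t) • ((1 : A) ⊗ₜ[C] m) := by
        show _ = FlatH4.tensorAct C A T M ((1 : A) ⊗ₜ[C] t) ((1 : A) ⊗ₜ[C] m)
        rw [FlatH4.tensorAct_tmul, one_mul]
      rw [hψ', h2, ← TensorProduct.smul_tmul, Algebra.smul_def]
      congr 1
      rw [map_mul, map_mul]
      ring

/-- Kernels of maps of modules killed by an ideal containing a power of the maximal ideal are killed
outside a prime over the closed point, if the base changes along a family detecting the ideal are flat. -/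
theorem exists_smul_eq_zero_of_family {C : Type u} [CommRing C] [IsLocalRing C] [IsNoetherianRing C]
    {T : Type u} [CommRing T] [Algebra C T] [IsNoetherianRing T]
    {M : Type u} [AddCommGroup M] [Module C M] [Module T M] [IsScalarTower C T M] [Module.Finite T M]
    (P : Ideal T) [P.IsPrime] (hP : P.comap (algebraMap C T) = maximalIdeal C)
    {ι : Type u} (A' : ι → Type u) [∀ i, CommRing (A' i)] [∀ i, IsLocalRing (A' i)] [∀ i, Algebra C (A' i)]
    (K : Ideal C) (n : ℕ) (hKm : K ≤ maximalIdeal C) (hK1 : maximalIdeal C ^ (n + 1) ≤ K)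
    (hKi : ∀ i, K ≤ (maximalIdeal (A' i) ^ (n + 1)).comap (algebraMap C (A' i)))
    (hK : ∀ c : C, (∀ i, algebraMap C (A' i) c ∈ maximalIdeal (A' i) ^ (n + 1)) → c ∈ K)
    (hflat : ∀ i (Q : Ideal (A' i ⊗[C] T)) [Q.IsPrime],
      Q.comap (Algebra.TensorProduct.includeRight : T →ₐ[C] A' i ⊗[C] T).toRingHom = P →
      Q.comap (algebraMap (A' i) (A' i ⊗[C] T)) = maximalIdeal (A' i) →
      letI := FlatH4.tensorModule C (A' i) T M
      haveI := FlatH4.tensorModule_isScalarTower C (A' i) T M
      Module.Flat (A' i) (LocalizedModule Q.primeCompl (A' i ⊗[C] M)))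
    {N N' : Type u} [AddCommGroup N] [Module C N] [AddCommGroup N'] [Module C N']
    (hN : Module.IsTorsionBySet C N (K : Set C)) (hN' : Module.IsTorsionBySet C N' (K : Set C))
    (f : N →ₗ[C] N') (hf : Function.Injective f) (x : M ⊗[C] N) (hx : f.lTensor M x = 0) :
    ∃ t ∈ P.primeCompl, t • x = 0 := by
  classical
  let A := C ⧸ K
  haveI : IsArtinianRing A := FlatDvr5.isArtinianRing_quotient K (n + 1) hK1
  haveI : Nontrivial A := Ideal.Quotient.nontrivial_iff.2
    (ne_top_of_le_ne_top (maximalIdeal.isMaximal C).ne_top hKm)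
  haveI : IsLocalRing A := IsLocalRing.of_surjective' (Ideal.Quotient.mk _) Ideal.Quotient.mk_surjective
  let TK := A ⊗[C] T
  let MK := A ⊗[C] M
  letI : Module TK MK := FlatH4.tensorModule C A T M
  haveI : IsScalarTower A TK MK := FlatH4.tensorModule_isScalarTower C A T M
  haveI : Module.Finite TK MK := FlatH4.tensorModule_finite C A T M
  let ψ : T →ₐ[C] TK := Algebra.TensorProduct.includeRight
  have hψs : Function.Surjective ψ := by
    intro z
    induction z using TensorProduct.induction_on with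
    | zero => exact ⟨0, map_zero _⟩
    | add a b ha hb =>
      obtain ⟨a, rfl⟩ := ha
      obtain ⟨b, rfl⟩ := hb
      exact ⟨a + b, map_add _ _ _⟩
    | tmul a t =>
      obtain ⟨c, rfl⟩ := Ideal.Quotient.mk_surjective a
      refine ⟨c • t, ?_⟩
      show (1 : A) ⊗ₜ[C] (c • t) = _
      rw [TensorProduct.tmul_smul, TensorProduct.smul_tmul', Algebra.smul_def, mul_one]
      rfl
  haveI : IsNoetherianRing TK := isNoetherianRing_of_surjective T TK ψ.toRingHom hψs
  let χA : A →ₐ[C] T ⧸ P := Ideal.Quotient.liftₐ (K) (Algebra.ofId C (T ⧸ P)) fun c hc => by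
    show algebraMap C (T ⧸ P) c = 0
    rw [IsScalarTower.algebraMap_apply C T (T ⧸ P), Ideal.Quotient.algebraMap_eq,
      Ideal.Quotient.eq_zero_iff_mem]
    exact hP.ge (hKm hc)
  let χ : TK →ₐ[C] T ⧸ P := Algebra.TensorProduct.lift χA (Ideal.Quotient.mkₐ C P) fun _ _ => Commute.all _ _
  let P' : Ideal TK := RingHom.ker χ.toRingHom
  haveI : P'.IsPrime := RingHom.ker_isPrime χ.toRingHom
  have hPψ : P'.comap ψ.toRingHom = P := by
    ext t
    show χ ((1 : A) ⊗ₜ[C] t) = 0 ↔ _
    rw [show χ ((1 : A) ⊗ₜ[C] t) = Ideal.Quotient.mk P t from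
      (Algebra.TensorProduct.lift_tmul _ _ _ _ _).trans (by rw [map_one, one_mul]; rfl)]
    exact Ideal.Quotient.eq_zero_iff_mem
  -- flatness over the Artinian quotient
  let A'' : ι → Type u := fun i => A' i ⧸ maximalIdeal (A' i) ^ (n + 1)
  haveI : ∀ i, Nontrivial (A'' i) := fun i => Ideal.Quotient.nontrivial_iff.2
    (ne_top_of_le_ne_top (maximalIdeal.isMaximal (A' i)).ne_top (Ideal.pow_le_self n.succ_ne_zero))
  haveI : ∀ i, IsLocalRing (A'' i) := fun i =>
    IsLocalRing.of_surjective' (Ideal.Quotient.mk _) Ideal.Quotient.mk_surjective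
  let u : ∀ i, A →+* A'' i := fun i => Ideal.quotientMap _ (algebraMap C (A' i)) (hKi i)
  letI : ∀ i, Algebra A (A'' i) := fun i => (u i).toAlgebra
  haveI : ∀ i, IsScalarTower C A (A'' i) := fun i => IsScalarTower.of_algebraMap_eq fun _ => rfl
  let T'' : ι → Type u := fun i => A'' i ⊗[A] TK
  letI : ∀ i, Algebra TK (T'' i) := fun i => Algebra.TensorProduct.rightAlgebra
  have hflatK : Module.Flat A (LocalizedModule P'.primeCompl MK) := by
    refine FlatDesc5.flat_localized_of_family (A := A) (T := TK) (M := MK) P' A'' T'' (fun a ha => ?_)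
      (fun i Q _ hQ hQm => ?_)
    · obtain ⟨c, rfl⟩ := Ideal.Quotient.mk_surjective a
      rw [Ideal.Quotient.eq_zero_iff_mem]
      refine hK c fun i => ?_
      have h0 : Ideal.Quotient.mk (maximalIdeal (A' i) ^ (n + 1)) (algebraMap C (A' i) c) = 0 := ha i
      exact (Ideal.Quotient.eq_zero_iff_mem (I := maximalIdeal (A' i) ^ (n + 1))).1 h0
    · refine flat_pushout_bc C A (A' i) (A'' i) T (T'' i) M Q ?_
      intro Q₀ _ h1 h2
      refine hflat i Q₀ (h1.trans ?_) (h2.trans ?_)
      · rw [hQ]; exact hPψ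
      · rw [hQm]
        haveI : ((maximalIdeal (A'' i)).comap (algebraMap (A' i) (A'' i))).IsMaximal :=
          Ideal.comap_isMaximal_of_surjective _ Ideal.Quotient.mk_surjective
        exact eq_maximalIdeal inferInstance
  -- transfer kernels
  letI := hN.module
  letI := hN'.module
  haveI : IsScalarTower C A N := hN.isScalarTower
  haveI : IsScalarTower C A N' := hN'.isScalarTower
  let ξ : ∀ (V : Type u) [AddCommGroup V] [Module C V] [Module A V] [IsScalarTower C A V],
      M ⊗[C] V ≃ₗ[C] MK ⊗[A] V := fun V _ _ _ _ =>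
    TensorProduct.comm C M V ≪≫ₗ (AlgebraTensorModule.cancelBaseChange C A A V M).symm.restrictScalars C ≪≫ₗ
      (TensorProduct.comm A V MK).restrictScalars C
  have hξ : ∀ (V : Type u) [AddCommGroup V] [Module C V] [Module A V] [IsScalarTower C A V] (m : M) (v : V),
      ξ V (m ⊗ₜ v) = ((1 : A) ⊗ₜ[C] m) ⊗ₜ[A] v := by
    intro V _ _ _ _ m v
    simp [ξ]
    rfl
  let f' : N →ₗ[A] N' := f.extendScalarsOfSurjective Ideal.Quotient.mk_surjective
  have hnat : ∀ z, ξ N' (f.lTensor M z) = f'.lTensor MK (ξ N z) := by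
    intro z
    induction z using TensorProduct.induction_on with
    | zero => simp
    | add a b ha hb => simp only [map_add, ha, hb]
    | tmul m v =>
      rw [LinearMap.lTensor_tmul, hξ, hξ, LinearMap.lTensor_tmul]
      rfl
  haveI := hflatK
  obtain ⟨t', ht', h0⟩ := FlatH4.exists_smul_eq_zero_of_flat_localized P' f' hf (ξ N x)
    (by rw [← hnat, hx, map_zero])
  obtain ⟨t, rfl⟩ := hψs t'
  refine ⟨t, fun htP => ht' (hPψ.ge htP), (ξ N).injective ?_⟩
  rw [map_zero, ← h0]
  clear hx h0
  induction x using TensorProduct.induction_on with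
  | zero => simp
  | add a b ha hb => simp only [smul_add, map_add, ha, hb]
  | tmul m v =>
    rw [TensorProduct.smul_tmul', hξ, hξ, TensorProduct.smul_tmul']
    congr 1
    show _ = FlatH4.tensorAct C A T M ((1 : A) ⊗ₜ[C] t) ((1 : A) ⊗ₜ[C] m)
    rw [FlatH4.tensorAct_tmul, one_mul]

/-- A finite module over an algebra of a complete Noetherian local ring is flat at a prime over the
closed point if its base changes along a separating family of local homomorphisms are. -/
theorem flat_localized_of_family {C : Type u} [CommRing C] [IsLocalRing C] [IsNoetherianRing C]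
    [IsAdicComplete (maximalIdeal C) C] {T : Type u} [CommRing T] [Algebra C T] [IsNoetherianRing T]
    {M : Type u} [AddCommGroup M] [Module C M] [Module T M] [IsScalarTower C T M] [Module.Finite T M]
    (P : Ideal T) [P.IsPrime] (hP : P.comap (algebraMap C T) = maximalIdeal C)
    {ι : Type u} (A' : ι → Type u) [∀ i, CommRing (A' i)] [∀ i, IsLocalRing (A' i)] [∀ i, Algebra C (A' i)]
    (hloc : ∀ i, (maximalIdeal C).map (algebraMap C (A' i)) ≤ maximalIdeal (A' i))
    (hsep : ∀ c : C, (∀ i n, algebraMap C (A' i) c ∈ maximalIdeal (A' i) ^ n) → c = 0)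
    (hflat : ∀ i (Q : Ideal (A' i ⊗[C] T)) [Q.IsPrime],
      Q.comap (Algebra.TensorProduct.includeRight : T →ₐ[C] A' i ⊗[C] T).toRingHom = P →
      Q.comap (algebraMap (A' i) (A' i ⊗[C] T)) = maximalIdeal (A' i) →
      letI := FlatH4.tensorModule C (A' i) T M
      haveI := FlatH4.tensorModule_isScalarTower C (A' i) T M
      Module.Flat (A' i) (LocalizedModule Q.primeCompl (A' i ⊗[C] M))) :
    Module.Flat C (LocalizedModule P.primeCompl M) := by
  classical
  let g := LocalizedModule.mkLinearMap P.primeCompl M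
  let TP := Localization P.primeCompl
  haveI : IsLocalRing TP := Localization.AtPrime.isLocalRing P
  haveI : IsNoetherianRing TP := IsLocalization.isNoetherianRing P.primeCompl TP inferInstance
  haveI : Module.Finite TP (LocalizedModule P.primeCompl M) := Module.Finite.of_isLocalizedModule P.primeCompl g
  let K : ℕ → Ideal C := fun n => maximalIdeal C ⊓ ⨅ i, (maximalIdeal (A' i) ^ (n + 1)).comap (algebraMap C (A' i))
  have hKm : ∀ n, K n ≤ maximalIdeal C := fun n => inf_le_left
  have hK1 : ∀ n, maximalIdeal C ^ (n + 1) ≤ K n := fun n => le_inf (Ideal.pow_le_self n.succ_ne_zero)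
    (le_iInf fun i => by
      rw [← Ideal.map_le_iff_le_comap, Ideal.map_pow]
      exact Ideal.pow_right_mono (hloc i) _)
  have hKanti : Antitone K := fun a b hab => inf_le_inf le_rfl (iInf_mono fun i =>
    Ideal.comap_mono (Ideal.pow_le_pow_right (by omega)))
  have hK0 : ⨅ n, K n = ⊥ := by
    rw [eq_bot_iff]
    intro x hx
    refine (Submodule.mem_bot C).2 (hsep x fun i n => ?_)
    exact Ideal.pow_le_pow_right (Nat.le_succ n) ((Submodule.mem_iInf _).1 ((Submodule.mem_iInf _).1 hx n).2 i)
  have hker : ∀ (n : ℕ) {N N' : Type u} [AddCommGroup N] [Module C N] [AddCommGroup N'] [Module C N'],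
      Module.IsTorsionBySet C N (K n : Set C) → Module.IsTorsionBySet C N' (K n : Set C) →
      ∀ f : N →ₗ[C] N', Function.Injective f → ∀ x : M ⊗[C] N,
        f.lTensor M x = 0 → ∃ t ∈ P.primeCompl, t • x = 0 := by
    intro n N N' _ _ _ _ hN hN' f hf x hx
    refine exists_smul_eq_zero_of_family P hP A' (K n) n (hKm n) (hK1 n)
      (fun i => inf_le_right.trans (iInf_le _ i)) (fun c hc => ⟨?_, (Submodule.mem_iInf _).2 hc⟩) hflat hN hN' f hf x hx
    by_contra hcm
    rcases isEmpty_or_nonempty ι with hι | ⟨⟨i⟩⟩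
    · exact one_ne_zero (hsep 1 fun i => isEmptyElim i)
    · exact (maximalIdeal.isMaximal (A' i)).ne_top (Ideal.eq_top_of_isUnit_mem _
        (Ideal.pow_le_self n.succ_ne_zero (hc i)) ((notMem_maximalIdeal.1 hcm).map _))
  refine FlatH4.flat_of_forall_flat_quotient_pow (S := TP) (maximalIdeal C) ?_ fun j _ =>
    FlatH4.flat_mod_of_injective _ fun hN hN' f hf => ?_
  · rw [IsLocalRing.jacobson_eq_maximalIdeal ⊥ bot_ne_top, IsScalarTower.algebraMap_eq C T TP, ← Ideal.map_map]
    refine (Ideal.map_mono (Ideal.map_le_iff_le_comap.2 hP.ge)).trans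
      (Ideal.map_le_iff_le_comap.2 fun x hx => ?_)
    exact (IsLocalization.AtPrime.to_map_mem_maximal_iff TP P x).2 hx
  · obtain ⟨n, hn⟩ := HLV27.exists_le_pow K hKanti hK0 j
    exact FlatH4.lTensor_localized_injective P.primeCompl g f fun x hx =>
      hker n (fun y c => @hN y ⟨c.1, hn c.2⟩) (fun y c => @hN' y ⟨c.1, hn c.2⟩) f hf x hx

/-- Flatness modulo an ideal from a family detecting it. -/
theorem flat_mod_of_family {C : Type u} [CommRing C] [IsLocalRing C] [IsNoetherianRing C]
    {T : Type u} [CommRing T] [Algebra C T] [IsNoetherianRing T]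
    {M : Type u} [AddCommGroup M] [Module C M] [Module T M] [IsScalarTower C T M] [Module.Finite T M]
    (P : Ideal T) [P.IsPrime] (hP : P.comap (algebraMap C T) = maximalIdeal C)
    {ι : Type u} (A' : ι → Type u) [∀ i, CommRing (A' i)] [∀ i, IsLocalRing (A' i)] [∀ i, Algebra C (A' i)]
    (K : Ideal C) (n : ℕ) (hKm : K ≤ maximalIdeal C) (hK1 : maximalIdeal C ^ (n + 1) ≤ K)
    (hKi : ∀ i, K ≤ (maximalIdeal (A' i) ^ (n + 1)).comap (algebraMap C (A' i)))
    (hK : ∀ c : C, (∀ i, algebraMap C (A' i) c ∈ maximalIdeal (A' i) ^ (n + 1)) → c ∈ K)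
    (hflat : ∀ i (Q : Ideal (A' i ⊗[C] T)) [Q.IsPrime],
      Q.comap (Algebra.TensorProduct.includeRight : T →ₐ[C] A' i ⊗[C] T).toRingHom = P →
      Q.comap (algebraMap (A' i) (A' i ⊗[C] T)) = maximalIdeal (A' i) →
      letI := FlatH4.tensorModule C (A' i) T M
      haveI := FlatH4.tensorModule_isScalarTower C (A' i) T M
      Module.Flat (A' i) (LocalizedModule Q.primeCompl (A' i ⊗[C] M))) :
    Module.Flat (C ⧸ K) ((C ⧸ K) ⊗[C] LocalizedModule P.primeCompl M) :=
  FlatH4.flat_mod_of_injective K fun hN hN' f hf =>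
    FlatH4.lTensor_localized_injective P.primeCompl (LocalizedModule.mkLinearMap P.primeCompl M) f fun x hx =>
      exists_smul_eq_zero_of_family P hP A' K n hKm hK1 hKi hK hflat hN hN' f hf x hx

/-- Flatness at a prime of a base change, from flatness modulo an ideal killed by the base change. -/
theorem flat_baseChange_of_flat_mod {R : Type u} [CommRing R] {S : Type u} [CommRing S] [Algebra R S]
    {M : Type u} [AddCommGroup M] [Module R M] [Module S M] [IsScalarTower R S M]
    (I : Ideal R) (q : Ideal S) [q.IsPrime] {R' : Type u} [CommRing R'] [Algebra R R']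
    (hI : ∀ x ∈ I, algebraMap R R' x = 0)
    (h : Module.Flat (R ⧸ I) ((R ⧸ I) ⊗[R] LocalizedModule q.primeCompl M))
    (Q : Ideal (R' ⊗[R] S)) [Q.IsPrime]
    (hQ : Q.comap (Algebra.TensorProduct.includeRight : S →ₐ[R] R' ⊗[R] S).toRingHom = q) :
    letI := FlatH4.tensorModule R R' S M
    haveI := FlatH4.tensorModule_isScalarTower R R' S M
    Module.Flat R' (LocalizedModule Q.primeCompl (R' ⊗[R] M)) := by
  letI : Module (R' ⊗[R] S) (R' ⊗[R] M) := FlatH4.tensorModule R R' S M
  haveI : IsScalarTower R' (R' ⊗[R] S) (R' ⊗[R] M) := FlatH4.tensorModule_isScalarTower R R' S M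
  rw [FlatH4.flat_localized_iff]
  intro J x hx
  let ι := J.subtype.restrictScalars R
  let θ : (R' ⊗[R] M) ⊗[R'] J ≃ₗ[R] M ⊗[R] J :=
    (TensorProduct.comm R' _ J ≪≫ₗ AlgebraTensorModule.cancelBaseChange R R' R' J M).restrictScalars R ≪≫ₗ
      TensorProduct.comm R J M
  have hθ : ∀ (a : R') (m : M) (j : J), θ ((a ⊗ₜ m) ⊗ₜ j) = m ⊗ₜ (a • j) := by
    intro a m j
    simp [θ]
  let θ' : (R' ⊗[R] M) ⊗[R'] R' ≃ₗ[R] M ⊗[R] R' :=
    (TensorProduct.comm R' _ R' ≪≫ₗ AlgebraTensorModule.cancelBaseChange R R' R' R' M).restrictScalars R ≪≫ₗ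
      TensorProduct.comm R R' M
  have hθ' : ∀ (a : R') (m : M) (j : R'), θ' ((a ⊗ₜ m) ⊗ₜ j) = m ⊗ₜ (a • j) := by
    intro a m j
    simp [θ']
  have hnat : ∀ z, θ' (J.subtype.lTensor _ z) = ι.lTensor M (θ z) := by
    intro z
    induction z using TensorProduct.induction_on with
    | zero => simp
    | add a b ha hb => simp only [map_add, ha, hb]
    | tmul w j =>
      induction w using TensorProduct.induction_on with
      | zero => simp
      | add a b ha hb => simp only [add_tmul, map_add, ha, hb]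
      | tmul a m =>
        rw [LinearMap.lTensor_tmul, hθ', hθ, LinearMap.lTensor_tmul]
        rfl
  have h0 : ι.lTensor M (θ x) = 0 := by rw [← hnat, hx, map_zero]
  have hJ : Module.IsTorsionBySet R J (I : Set R) := fun j c => Subtype.ext (by
    show (c : R) • (j : R') = 0
    rw [Algebra.smul_def, hI c c.2, zero_mul])
  have hR' : Module.IsTorsionBySet R R' (I : Set R) := fun j c => by
    rw [Algebra.smul_def, hI c c.2, zero_mul]
  let g := LocalizedModule.mkLinearMap q.primeCompl M
  have h1 : (AlgebraTensorModule.rTensor R J g) (θ x) = 0 := by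
    apply FlatH4.lTensor_injective_of_flat_mod I h hJ hR' ι Subtype.val_injective
    rw [map_zero]
    show ι.lTensor _ ((g.restrictScalars R).rTensor J (θ x)) = 0
    rw [← LinearMap.comp_apply, LinearMap.lTensor_comp_rTensor, ← LinearMap.rTensor_comp_lTensor,
      LinearMap.comp_apply, h0, map_zero]
  obtain ⟨t, ht⟩ := (IsLocalizedModule.eq_zero_iff q.primeCompl (AlgebraTensorModule.rTensor R J g)).1 h1
  refine ⟨(1 : R') ⊗ₜ (t : S), fun hmem => t.2 (hQ.le hmem), θ.injective ?_⟩
  rw [map_zero, ← ht]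
  clear hx h0 h1 ht
  induction x using TensorProduct.induction_on with
  | zero => simp
  | add a b ha hb => simp only [smul_add, map_add, ha, hb]
  | tmul w j =>
    induction w using TensorProduct.induction_on with
    | zero => simp
    | add a b ha hb => simp only [smul_add, add_tmul, map_add, ha, hb]
    | tmul a m =>
      rw [TensorProduct.smul_tmul', show ((1 : R') ⊗ₜ[R] (t : S)) • (a ⊗ₜ[R] m) = a ⊗ₜ[R] ((t : S) • m) from
        (FlatH4.tensorAct_tmul R R' S M 1 a (t : S) m).trans (by rw [one_mul]), hθ, hθ]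
      rfl

end Groth.Agent.FlatFam5
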