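import Groth.Agent.Lib.FlatFam5.Std
import Groth.Agent.Lib.FlatH4.FlatDescentAt
import Groth.Agent.Lib.FlatH4.FlatLocusFP
import Groth.Agent.Lib.EtQuotH28.PrimeTensor
import Mathlib.RingTheory.FinitePresentation

/-!
# Flattening ideals and arbitrary local base changes
-/

set_option autoImplicit false
set_option backward.isDefEq.respectTransparency false
set_option linter.style.haveILetI false
set_option maxHeartbeats 1600000

universe u

open TensorProduct IsLocalRing

namespace Groth.Agent.FlatFam5

/-- Flatness at equal primes. -/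
theorem flat_of_eq {A T N : Type u} [CommRing A] [CommRing T] [Algebra A T] [AddCommGroup N] [Module A N]
    [Module T N] [IsScalarTower A T N] {P P' : Ideal T} [P.IsPrime] [P'.IsPrime] (e : P = P')
    (h : Module.Flat A (LocalizedModule P.primeCompl N)) : Module.Flat A (LocalizedModule P'.primeCompl N) := by
  subst e; exact h

/-- Flatness at a prime of `C ⊗ M` is stable under base change. -/
theorem flat_localized_bc {R S M C C' : Type u} [CommRing R] [CommRing S] [Algebra R S] [AddCommGroup M]
    [Module R M] [Module S M] [IsScalarTower R S M] [CommRing C] [CommRing C'] [Algebra R C] [Algebra R C']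
    [Algebra C C'] [IsScalarTower R C C'] (Q : Ideal (C' ⊗[R] S)) [Q.IsPrime]
    (h : letI := FlatH4.tensorModule R C S M
      haveI := FlatH4.tensorModule_isScalarTower R C S M
      Module.Flat C (LocalizedModule (Q.comap (FlatDvr5.bcMap R S C C').toRingHom).primeCompl (C ⊗[R] M))) :
    letI := FlatH4.tensorModule R C' S M
    haveI := FlatH4.tensorModule_isScalarTower R C' S M
    Module.Flat C' (LocalizedModule Q.primeCompl (C' ⊗[R] M)) := by
  letI : Module (C ⊗[R] S) (C ⊗[R] M) := FlatH4.tensorModule R C S M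
  haveI : IsScalarTower C (C ⊗[R] S) (C ⊗[R] M) := FlatH4.tensorModule_isScalarTower R C S M
  letI : Module (C' ⊗[R] S) (C' ⊗[R] M) := FlatH4.tensorModule R C' S M
  haveI : IsScalarTower C' (C' ⊗[R] S) (C' ⊗[R] M) := FlatH4.tensorModule_isScalarTower R C' S M
  haveI := h
  refine FlatH4.flat_localized_baseChange (R := C) (S := C ⊗[R] S) (M := C ⊗[R] M) C'
    (FlatDvr5.bcMap R S C C').toRingHom Q (AlgebraTensorModule.cancelBaseChange R C C' C' M) ?_
  intro s m
  induction s using TensorProduct.induction_on with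
  | zero => simp
  | add a b ha hb => simp only [add_smul, tmul_add, map_add, ha, hb]
  | tmul c s =>
    induction m using TensorProduct.induction_on with
    | zero => simp
    | add a b ha hb => simp only [smul_add, tmul_add, map_add, ha, hb]
    | tmul d m =>
      rw [show (c ⊗ₜ[R] s) • (d ⊗ₜ[R] m) = (c * d) ⊗ₜ[R] (s • m) from
        FlatH4.tensorAct_tmul R C S M c d s m, AlgebraTensorModule.cancelBaseChange_tmul,
        AlgebraTensorModule.cancelBaseChange_tmul]
      show _ = FlatH4.tensorAct R C' S M (algebraMap C C' c ⊗ₜ[R] s) ((d • (1 : C')) ⊗ₜ[R] m)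
      rw [FlatH4.tensorAct_tmul]
      simp [Algebra.smul_def]

/-- Flatness at a prime comes from a finitely generated stage, for any finite type algebra. -/
theorem exists_stage_of_cover {R A S P M : Type u} [CommRing R] [IsNoetherianRing R] [CommRing A] [Algebra R A]
    [CommRing S] [Algebra R S] [CommRing P] [Algebra R P] [Algebra.FiniteType R P] [Module.Flat R P]
    (φ : P →ₐ[R] S) (hφ : Function.Surjective φ) [AddCommGroup M] [Module R M] [Module S M] [IsScalarTower R S M]
    [Module.Finite S M] (Q : Ideal (A ⊗[R] S)) [Q.IsPrime]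
    (h : letI := FlatH4.tensorModule R A S M
      haveI := FlatH4.tensorModule_isScalarTower R A S M
      Module.Flat A (LocalizedModule Q.primeCompl (A ⊗[R] M))) :
    ∃ B₀ : Subalgebra R A, B₀.FG ∧ ∀ B : Subalgebra R A, B₀ ≤ B → B.FG →
      letI := FlatH4.tensorModule R B S M
      haveI := FlatH4.tensorModule_isScalarTower R B S M
      Module.Flat B (LocalizedModule (FlatH4.primeAt Q B).primeCompl (B ⊗[R] M)) := by
  letI : Module P M := Module.compHom M φ.toRingHom
  haveI : IsScalarTower R P M := IsScalarTower.of_algebraMap_smul fun r m => by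
    show φ (algebraMap R P r) • m = r • m
    rw [AlgHom.commutes, algebraMap_smul]
  haveI : Module.Finite P M := by
    letI : Algebra P S := φ.toRingHom.toAlgebra
    haveI : IsScalarTower P S M := IsScalarTower.of_algebraMap_smul fun _ _ => rfl
    haveI : Module.Finite P S := Module.Finite.of_surjective (Algebra.linearMap P S) hφ
    exact Module.Finite.trans S M
  let Φ : ∀ (C : Type u) [CommRing C] [Algebra R C], C ⊗[R] P →ₐ[C] C ⊗[R] S := fun C _ _ =>
    Algebra.TensorProduct.map (AlgHom.id C C) φ
  have hΦ : ∀ (C : Type u) [CommRing C] [Algebra R C], Function.Surjective (Φ C) := fun C _ _ => by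
    intro z
    induction z using TensorProduct.induction_on with
    | zero => exact ⟨0, map_zero _⟩
    | add a b ha hb =>
      obtain ⟨a, rfl⟩ := ha
      obtain ⟨b, rfl⟩ := hb
      exact ⟨a + b, map_add _ _ _⟩
    | tmul c t =>
      obtain ⟨t, rfl⟩ := hφ t
      exact ⟨c ⊗ₜ t, rfl⟩
  have hact : ∀ (C : Type u) [CommRing C] [Algebra R C] (x : C ⊗[R] P) (y : C ⊗[R] M),
      FlatH4.tensorAct R C P M x y = FlatH4.tensorAct R C S M (Φ C x) y := fun C _ _ x y => by
    induction x using TensorProduct.induction_on with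
    | zero => simp
    | add a b ha hb => simp only [map_add, LinearMap.add_apply, ha, hb]
    | tmul c t =>
      induction y using TensorProduct.induction_on with
      | zero => simp
      | add a b ha hb => simp only [map_add, ha, hb]
      | tmul d m => simp [Φ, FlatH4.tensorAct_tmul]; rfl
  obtain ⟨k, π, hπ⟩ := Module.Finite.exists_fin' P M
  haveI : Module.Flat R (Fin k → P) := Module.Flat.trans R P (Fin k → P)
  obtain ⟨B₀, hB₀, hB⟩ := FlatH4.exists_subalgebra_flatAt_of_presentation π hπ (Q.comap (Φ A)) (by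
    letI := FlatH4.tensorModule R A P M
    haveI := FlatH4.tensorModule_isScalarTower R A P M
    letI := FlatH4.tensorModule R A S M
    haveI := FlatH4.tensorModule_isScalarTower R A S M
    exact (FlatH4.flat_localized_comap_iff (R := A) (M := A ⊗[R] M) (Φ A) (hΦ A) Q (hact A)).2 h)
  refine ⟨B₀, hB₀, fun B hle hBfg => ?_⟩
  letI := FlatH4.tensorModule R B P M
  haveI := FlatH4.tensorModule_isScalarTower R B P M
  letI := FlatH4.tensorModule R B S M
  haveI := FlatH4.tensorModule_isScalarTower R B S M
  refine (FlatH4.flat_localized_comap_iff (R := B) (M := B ⊗[R] M) (Φ B) (hΦ B) (FlatH4.primeAt Q B) (hact B)).1 ?_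
  refine flat_of_eq ?_ (hB B hle hBfg)
  show (Q.comap (Φ A).toRingHom).comap (Algebra.TensorProduct.map B.val (AlgHom.id R P)).toRingHom =
    (Q.comap (Algebra.TensorProduct.map B.val (AlgHom.id R S)).toRingHom).comap (Φ B).toRingHom
  rw [Ideal.comap_comap, Ideal.comap_comap]
  congr 1
  refine RingHom.ext fun z => ?_
  induction z using TensorProduct.induction_on with
  | zero => simp
  | add a b ha hb => simp only [map_add, ha, hb]
  | tmul b t => rfl

/-- Flatness at a prime comes from a finitely generated stage, for a finite type algebra. -/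
theorem exists_stage {R A S M : Type u} [CommRing R] [IsNoetherianRing R] [CommRing A] [Algebra R A] [CommRing S]
    [Algebra R S] [Algebra.FiniteType R S] [AddCommGroup M] [Module R M] [Module S M] [IsScalarTower R S M]
    [Module.Finite S M] (Q : Ideal (A ⊗[R] S)) [Q.IsPrime]
    (h : letI := FlatH4.tensorModule R A S M
      haveI := FlatH4.tensorModule_isScalarTower R A S M
      Module.Flat A (LocalizedModule Q.primeCompl (A ⊗[R] M))) :
    ∃ B₀ : Subalgebra R A, B₀.FG ∧ ∀ B : Subalgebra R A, B₀ ≤ B → B.FG →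
      letI := FlatH4.tensorModule R B S M
      haveI := FlatH4.tensorModule_isScalarTower R B S M
      Module.Flat B (LocalizedModule (FlatH4.primeAt Q B).primeCompl (B ⊗[R] M)) := by
  obtain ⟨n, φ, hφ⟩ := Algebra.FiniteType.iff_quotient_mvPolynomial''.1 ‹Algebra.FiniteType R S›
  exact exists_stage_of_cover φ hφ Q h

/-- If all points over the closed point of a local base change are flat, the flattening ideal of a
algebra of finite type dies in it. -/
theorem le_ker_of_forall_flat {R S : Type u} [CommRing R] [IsLocalRing R] [IsNoetherianRing R] [CommRing S]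
    [Algebra R S] [Algebra.FiniteType R S]
    {M : Type u} [AddCommGroup M] [Module R M] [Module S M] [IsScalarTower R S M] [Module.Finite S M]
    {R' : Type u} [CommRing R'] [IsLocalRing R'] [Algebra R R'] [IsLocalHom (algebraMap R R')]
    (h : ∀ (Q : Ideal (R' ⊗[R] S)) [Q.IsPrime], Q.comap (algebraMap R' (R' ⊗[R] S)) = maximalIdeal R' →
      letI := FlatH4.tensorModule R R' S M
      haveI := FlatH4.tensorModule_isScalarTower R R' S M
      Module.Flat R' (LocalizedModule Q.primeCompl (R' ⊗[R] M)))
    (I : Ideal R) (hmin : ∀ J : Ideal R, (∀ (q : Ideal S) [q.IsPrime], q.comap (algebraMap R S) = maximalIdeal R →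
        Module.Flat (R ⧸ J) ((R ⧸ J) ⊗[R] LocalizedModule q.primeCompl M)) → I ≤ J) :
    I ≤ RingHom.ker (algebraMap R R') := by
  classical
  haveI : IsNoetherianRing S := Algebra.FiniteType.isNoetherianRing R S
  let Z : Set (PrimeSpectrum (R' ⊗[R] S)) :=
    PrimeSpectrum.zeroLocus ((maximalIdeal R').map (algebraMap R' (R' ⊗[R] S)) : Set (R' ⊗[R] S))
  have hZ : ∀ Q ∈ Z, Q.asIdeal.comap (algebraMap R' (R' ⊗[R] S)) = maximalIdeal R' := fun Q hQ =>
    le_antisymm (le_maximalIdeal (Ideal.IsPrime.comap _).ne_top) (Ideal.map_le_iff_le_comap.1 hQ)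
  have hstage : ∀ Q : Z, ∃ B₀ : Subalgebra R R', B₀.FG ∧ ∀ B : Subalgebra R R', B₀ ≤ B → B.FG →
      letI := FlatH4.tensorModule R B S M
      haveI := FlatH4.tensorModule_isScalarTower R B S M
      Module.Flat B (LocalizedModule (FlatH4.primeAt Q.1.asIdeal B).primeCompl (B ⊗[R] M)) := fun Q =>
    exists_stage Q.1.asIdeal (h Q.1.asIdeal (hZ _ Q.2))
  choose B₀ hB₀fg hB₀ using hstage
  let φ : ∀ B : Subalgebra R R', B ⊗[R] S →+* R' ⊗[R] S := fun B =>
    (Algebra.TensorProduct.map B.val (AlgHom.id R S)).toRingHom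
  let G : ∀ B : Subalgebra R R', Set (PrimeSpectrum (B ⊗[R] S)) := fun B =>
    letI := FlatH4.tensorModule R B S M
    haveI := FlatH4.tensorModule_isScalarTower R B S M
    {q | Module.Flat B (LocalizedModule q.asIdeal.primeCompl (B ⊗[R] M))}
  have hG : ∀ B : Subalgebra R R', B.FG → IsOpen (G B) := fun B hB => by
    letI := FlatH4.tensorModule R B S M
    haveI := FlatH4.tensorModule_isScalarTower R B S M
    haveI := FlatH4.tensorModule_finite R B S M
    haveI : IsNoetherianRing B := isNoetherianRing_of_fg hB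
    haveI : Algebra.FiniteType B (B ⊗[R] S) := Algebra.FiniteType.baseChange B
    haveI : IsNoetherianRing (B ⊗[R] S) := Algebra.FiniteType.isNoetherianRing B _
    haveI : Algebra.FinitePresentation B (B ⊗[R] S) := Algebra.FinitePresentation.of_finiteType.1 inferInstance
    haveI : Module.FinitePresentation (B ⊗[R] S) (B ⊗[R] M) := Module.finitePresentation_of_finite _ _
    exact FlatH4.isOpen_flat_localized
  let U : Z → Set (PrimeSpectrum (R' ⊗[R] S)) := fun Q => PrimeSpectrum.comap (φ (B₀ Q)) ⁻¹' G (B₀ Q)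
  have hU : ∀ Q, IsOpen (U Q) := fun Q => (hG _ (hB₀fg Q)).preimage (PrimeSpectrum.continuous_comap _)
  have hcov : Z ⊆ ⋃ Q, U Q := fun Q hQ => Set.mem_iUnion.2 ⟨⟨Q, hQ⟩, hB₀ ⟨Q, hQ⟩ _ le_rfl (hB₀fg _)⟩
  obtain ⟨t, ht⟩ := (PrimeSpectrum.isClosed_zeroLocus _).isCompact.elim_finite_subcover U hU hcov
  let B : Subalgebra R R' := t.sup B₀
  have hBfg : B.FG := Finset.sup_induction Subalgebra.fg_bot (fun a ha b hb => ha.sup hb) (fun i _ => hB₀fg i)
  haveI : IsNoetherianRing B := isNoetherianRing_of_fg hBfg
  have hflatB : ∀ Q ∈ Z, letI := FlatH4.tensorModule R B S M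
      haveI := FlatH4.tensorModule_isScalarTower R B S M
      Module.Flat B (LocalizedModule (Q.asIdeal.comap (φ B)).primeCompl (B ⊗[R] M)) := by
    intro Q hQ
    obtain ⟨i, hi, hQi⟩ := Set.mem_iUnion₂.1 (ht hQ)
    have hle : B₀ i ≤ B := Finset.le_sup hi
    letI : Algebra (B₀ i) B := (Subalgebra.inclusion hle).toRingHom.toAlgebra
    haveI : IsScalarTower R (B₀ i) B := IsScalarTower.of_algebraMap_eq fun _ => rfl
    have hcomp : (φ B).comp (FlatDvr5.bcMap R S (B₀ i) B).toRingHom = φ (B₀ i) := by
      refine RingHom.ext fun z => ?_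
      induction z using TensorProduct.induction_on with
      | zero => simp
      | add a b ha hb => simp only [map_add, ha, hb]
      | tmul b s => rfl
    refine flat_localized_bc (C := B₀ i) (Q.asIdeal.comap (φ B)) ?_
    have e : (Q.asIdeal.comap (φ B)).comap (FlatDvr5.bcMap R S (B₀ i) B).toRingHom = Q.asIdeal.comap (φ (B₀ i)) := by
      rw [Ideal.comap_comap, hcomp]
    letI := FlatH4.tensorModule R (B₀ i) S M
    haveI := FlatH4.tensorModule_isScalarTower R (B₀ i) S M
    exact flat_of_eq e.symm hQi
  let mB : Ideal B := (maximalIdeal R').comap B.val.toRingHom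
  haveI : mB.IsPrime := Ideal.IsPrime.comap _
  let Bm := Localization.AtPrime mB
  haveI : IsNoetherianRing Bm := IsLocalization.isNoetherianRing mB.primeCompl Bm inferInstance
  have hRB : (algebraMap B R').comp (algebraMap R B) = algebraMap R R' := rfl
  have hmB : mB.comap (algebraMap R B) = maximalIdeal R := by
    rw [Ideal.comap_comap]
    exact IsLocalRing.maximalIdeal_comap (algebraMap R R')
  have hflatm : ∀ (Q₁ : Ideal (Bm ⊗[R] S)) [Q₁.IsPrime],
      Q₁.comap (algebraMap Bm (Bm ⊗[R] S)) = maximalIdeal Bm →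
      letI := FlatH4.tensorModule R Bm S M
      haveI := FlatH4.tensorModule_isScalarTower R Bm S M
      Module.Flat Bm (LocalizedModule Q₁.primeCompl (Bm ⊗[R] M)) := by
    intro Q₁ _ hQ₁
    refine flat_localized_bc (C := B) Q₁ ?_
    let Q₂ := Q₁.comap (FlatDvr5.bcMap R S B Bm).toRingHom
    have hQ₂ : Q₂.comap (algebraMap B (B ⊗[R] S)) = mB := by
      show (Q₁.comap (FlatDvr5.bcMap R S B Bm).toRingHom).comap _ = _
      rw [Ideal.comap_comap]
      have e : (FlatDvr5.bcMap R S B Bm).toRingHom.comp (algebraMap B (B ⊗[R] S)) =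
          (algebraMap Bm (Bm ⊗[R] S)).comp (algebraMap B Bm) :=
        RingHom.ext fun b => by simp [FlatDvr5.bcMap_tmul]
      rw [e, ← Ideal.comap_comap, hQ₁]
      exact IsLocalization.AtPrime.under_maximalIdeal Bm mB
    obtain ⟨N, hN, hN1, hN2⟩ := EtQuotH28.exists_prime_tensor (R := B) (S := R') (T := B ⊗[R] S)
      (maximalIdeal R') Q₂ hQ₂.symm
    haveI := hN
    let e := Algebra.TensorProduct.cancelBaseChange R B R' R' S
    let Q : PrimeSpectrum (R' ⊗[R] S) := ⟨N.comap e.symm.toRingHom, inferInstance⟩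
    have hQZ : Q ∈ Z := by
      refine Ideal.map_le_iff_le_comap.2 fun r hr => ?_
      show e.symm (algebraMap R' (R' ⊗[R] S) r) ∈ N
      rw [e.symm.commutes]
      exact hN1.ge hr
    have hQ2 : Q.asIdeal.comap (φ B) = Q₂ := by
      rw [← hN2]
      show (N.comap e.symm.toRingHom).comap (φ B) = _
      rw [Ideal.comap_comap]
      congr 1
      refine RingHom.ext fun z => e.injective ?_
      show e (e.symm (φ B z)) = e ((1 : R') ⊗ₜ[B] z)
      rw [e.apply_symm_apply]
      induction z using TensorProduct.induction_on with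
      | zero => simp
      | add a b ha hb => simp only [map_add, tmul_add, ha, hb]
      | tmul b s => simp [φ, e, Algebra.smul_def]
    letI := FlatH4.tensorModule R B S M
    haveI := FlatH4.tensorModule_isScalarTower R B S M
    exact flat_of_eq hQ2 (hflatB Q hQZ)
  intro x hx
  have hBm : algebraMap B Bm (algebraMap R B x) = 0 := by
    rw [← Ideal.mem_bot, ← Ideal.iInf_pow_eq_bot_of_isLocalRing
      (maximalIdeal Bm) (maximalIdeal.isMaximal Bm).ne_top, Submodule.mem_iInf]
    intro n
    let K : Ideal R := (maximalIdeal Bm ^ (n + 1)).comap (algebraMap R Bm)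
    have hm : (maximalIdeal Bm).comap (algebraMap R Bm) = maximalIdeal R := by
      rw [IsScalarTower.algebraMap_eq R B Bm, ← Ideal.comap_comap]
      refine Eq.trans ?_ hmB
      congr 1
      exact IsLocalization.AtPrime.under_maximalIdeal Bm mB
    have hKm : K ≤ maximalIdeal R := (Ideal.comap_mono (Ideal.pow_le_self n.succ_ne_zero)).trans hm.le
    have hK1 : maximalIdeal R ^ (n + 1) ≤ K := by
      rw [← Ideal.map_le_iff_le_comap, Ideal.map_pow]
      exact Ideal.pow_right_mono (Ideal.map_le_iff_le_comap.2 hm.ge) _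
    have hIK : I ≤ K := hmin K fun q _ hq => flat_mod_of_family (ι := PUnit.{u+1}) q hq
      (fun _ => Bm) K n hKm hK1 (fun _ => le_rfl) (fun c hc => hc PUnit.unit)
      (fun _ Q hQ' _ hQm => hflatm Q hQm)
    have := Ideal.pow_le_pow_right (Nat.le_succ n) (hIK hx)
    rwa [IsScalarTower.algebraMap_apply R B Bm] at this
  obtain ⟨⟨s, hs⟩, hsx⟩ := (IsLocalization.map_eq_zero_iff mB.primeCompl Bm _).1 hBm
  have hu : IsUnit (B.val s) := by
    by_contra hu
    exact hs hu
  rw [RingHom.mem_ker]
  refine hu.mul_right_eq_zero.1 ?_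
  have h0 := congrArg B.val hsx
  simpa using h0

end Groth.Agent.FlatFam5
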