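import Groth.Agent.Lib.FlatFam5.Basic
import Mathlib.RingTheory.TensorProduct.IsBaseChangePi

/-!
# An abstract base change against the tensor product
-/

set_option autoImplicit false
set_option backward.isDefEq.respectTransparency false
set_option linter.style.haveILetI false
set_option maxHeartbeats 800000

universe u

open TensorProduct IsLocalRing

namespace Groth.Agent.FlatFam5

variable {R S R' S' : Type u} [CommRing R] [CommRing S] [CommRing R'] [CommRing S']
  [Algebra R S] [Algebra R R'] [Algebra S S'] [Algebra R' S'] [Algebra R S']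
  [IsScalarTower R S S'] [IsScalarTower R R' S'] [Algebra.IsPushout R S R' S']
  {M M' : Type u} [AddCommGroup M] [Module S M] [Module R M] [IsScalarTower R S M]
  [AddCommGroup M'] [Module S' M'] [Module R' M'] [IsScalarTower R' S' M'] [Module S M'] [IsScalarTower S S' M']

/-- Flatness over the closed point of an abstract base change and of the tensor product agree. -/
theorem forall_flat_iff (f : M →ₗ[S] M') (hf : IsBaseChange S' f) (p : Ideal R') :
    (∀ (q' : Ideal S') [q'.IsPrime], q'.comap (algebraMap R' S') = p →
      Module.Flat R' (LocalizedModule q'.primeCompl M')) ↔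
    (∀ (Q : Ideal (R' ⊗[R] S)) [Q.IsPrime], Q.comap (algebraMap R' (R' ⊗[R] S)) = p →
      letI := FlatH4.tensorModule R R' S M
      haveI := FlatH4.tensorModule_isScalarTower R R' S M
      Module.Flat R' (LocalizedModule Q.primeCompl (R' ⊗[R] M))) := by
  letI : Module (R' ⊗[R] S) (R' ⊗[R] M) := FlatH4.tensorModule R R' S M
  haveI : IsScalarTower R' (R' ⊗[R] S) (R' ⊗[R] M) := FlatH4.tensorModule_isScalarTower R R' S M
  haveI : Algebra.IsPushout R R' S S' := Algebra.IsPushout.symm inferInstance
  let φ : R' ⊗[R] S ≃ₐ[R'] S' := Algebra.IsPushout.equiv R R' S S'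
  have hφ : ∀ (a : R') (s : S), φ (a ⊗ₜ s) = algebraMap R' S' a * algebraMap S S' s :=
    fun a s => Algebra.IsPushout.equiv_tmul R R' S S' a s
  let eM : R' ⊗[R] M ≃ₗ[R'] M' :=
    (Algebra.IsPushout.cancelBaseChange R R' S S' M).symm ≪≫ₗ hf.equiv.restrictScalars R'
  have heM : ∀ (a : R') (m : M), eM (a ⊗ₜ m) = algebraMap R' S' a • f m := by
    intro a m
    simp [eM, hf.equiv_tmul]
  have hact : ∀ (x : R' ⊗[R] S) (y : R' ⊗[R] M), eM (x • y) = φ x • eM y := by
    intro x y
    induction x using TensorProduct.induction_on with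
    | zero => simp
    | add u v hu hv => simp only [add_smul, map_add, hu, hv]
    | tmul a s =>
      induction y using TensorProduct.induction_on with
      | zero => simp
      | add u v hu hv => simp only [smul_add, map_add, hu, hv]
      | tmul b m =>
        rw [show (a ⊗ₜ[R] s) • (b ⊗ₜ[R] m) = (a * b) ⊗ₜ[R] (s • m) from
          FlatH4.tensorAct_tmul R R' S M a b s m, heM, heM, hφ, map_smul, map_mul, smul_smul,
          ← algebraMap_smul S' s (f m), smul_smul]
        congr 1
        ring
  constructor
  · intro h Q _ hQ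
    let q' : Ideal S' := Q.comap φ.symm.toRingHom
    have hq : q'.comap (algebraMap R' S') = p := by
      rw [← hQ, Ideal.comap_comap]
      congr 1
      exact φ.symm.toAlgHom.comp_algebraMap
    have hqQ : q'.comap φ.toRingHom = Q := by
      rw [Ideal.comap_comap]
      convert Ideal.comap_id Q
      exact RingHom.ext fun x => φ.symm_apply_apply x
    haveI := h q' hq
    refine FlatH4.flat_localized_baseChange (R := R') (S := S') (M := M') R' φ.symm.toRingHom Q
      (TensorProduct.lid R' M' ≪≫ₗ eM.symm) ?_
    intro s m
    apply eM.injective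
    show eM (eM.symm _) = eM (φ.symm s • eM.symm _)
    rw [eM.apply_symm_apply, hact, eM.apply_symm_apply, φ.apply_symm_apply]
    simp
  · intro h q' _ hq
    let Q : Ideal (R' ⊗[R] S) := q'.comap φ.toRingHom
    have hQ : Q.comap (algebraMap R' (R' ⊗[R] S)) = p := by
      rw [← hq, Ideal.comap_comap]
      congr 1
      exact φ.toAlgHom.comp_algebraMap
    haveI := h Q hQ
    refine FlatH4.flat_localized_baseChange (R := R') (S := R' ⊗[R] S) (M := R' ⊗[R] M) R' φ.toRingHom q'
      (TensorProduct.lid R' (R' ⊗[R] M) ≪≫ₗ eM) ?_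
    intro s m
    show eM _ = φ s • eM _
    rw [← hact]
    simp

end Groth.Agent.FlatFam5
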